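import Mathlib
import Cfsg.Agent.Lib.Helper63.MC.Defs
import Cfsg.Agent.Lib.Helper73.MaxClass
import Cfsg.Agent.S4209

/-!
# S3806 team project "MC": package [ABEL]

`L (k-1)` is abelian in a group of maximal class of order `p ^ (2k+1)`.
-/

set_option autoImplicit false

namespace Cfsg.Agent.Lib.Helper59.MC

universe u

open Cfsg.Agent.Lib.Helper63.MC
open scoped commutatorElement

/-- **[ABEL]** from [STRUCT] -/
theorem pkgAbel_of (h : PkgStruct.{u}) : PkgAbel.{u} := by
  intro T _ _ p _ k hk hT hc
  have hp : p.Prime := Fact.out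
  have hP : IsPGroup p T := IsPGroup.of_card hT
  have hnil : Group.IsNilpotent T := hP.isNilpotent
  have hc' : Group.nilpotencyClass T = 2 * k + 1 - 1 := by omega
  obtain ⟨hcard, -⟩ := h T p (2 * k + 1) (by omega) hT hc'
  have h1 : Nat.card (L T (k - 1)) = p ^ (k + 1) := by
    rw [hcard (k - 1) (by omega) (by omega)]
    congr 1
    omega
  have h2 : Nat.card (L T k) = p ^ k := by
    rw [hcard k (by omega) (by omega)]
    congr 1
    omega
  have hle : L T k ≤ L T (k - 1) := Subgroup.lowerCentralSeries_antitone _ (by omega)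
  -- `L k` centralizes `L (k-1)`
  have hbot : L T (2 * k) = ⊥ := by
    have := Subgroup.lowerCentralSeries_nilpotencyClass (G := T)
    rw [hc] at this
    exact this
  have hcen : ∀ a ∈ L T k, ∀ b ∈ L T (k - 1), a * b = b * a := by
    intro a ha b hb
    have h3 : ⁅a, b⁆ ∈ ⁅L T k, L T (k - 1)⁆ := Subgroup.commutator_mem_commutator ha hb
    have h4 := Cfsg.Agent.S4209.lcs_comm_top (K := T) k (k - 1) h3
    have h5 : k + (k - 1) + 1 = 2 * k := by omega
    rw [h5] at h4
    have h6 : ⁅a, b⁆ ∈ L T (2 * k) := h4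
    rw [hbot, Subgroup.mem_bot, commutatorElement_def] at h6
    calc a * b = a * b * a⁻¹ * b⁻¹ * (b * a) := by group
      _ = b * a := by rw [h6, one_mul]
  -- the quotient of `L (k-1)` by `L k` has order `p`
  let N : Subgroup (L T (k - 1)) := (L T k).subgroupOf (L T (k - 1))
  have hNn : N.Normal := inferInstance
  have hNcard : Nat.card N = p ^ k := by
    rw [← h2]
    exact Nat.card_congr (Subgroup.subgroupOfEquivOfLe hle).toEquiv
  have hidx : Nat.card (L T (k - 1) ⧸ N) = p := by
    have h7 := N.card_mul_index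
    rw [hNcard, h1, pow_succ] at h7
    have h8 := Nat.eq_of_mul_eq_mul_left (pow_pos hp.pos k) h7
    rw [← h8]
    rfl
  have hcyc : IsCyclic (L T (k - 1) ⧸ N) := isCyclic_of_prime_card hidx
  have hker : (QuotientGroup.mk' N).ker ≤ Subgroup.center (L T (k - 1)) := by
    rw [QuotientGroup.ker_mk']
    intro x hx
    rw [Subgroup.mem_center_iff]
    intro g
    apply Subtype.ext
    have hx' : (x : T) ∈ L T k := Subgroup.mem_subgroupOf.mp hx
    exact (hcen x hx' g g.2).symm
  intro a ha b hb
  have h9 := ((QuotientGroup.mk' N).isMulCommutative_of_isCyclic_of_ker_le_center hker).is_comm.comm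
    ⟨a, ha⟩ ⟨b, hb⟩
  exact congrArg Subtype.val h9

end Cfsg.Agent.Lib.Helper59.MC
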