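import Mathlib
import Cfsg.Agent.Lib.Helper63.MC.Defs
import Cfsg.Agent.Lib.Helper73.MaxClass

/-!
# S3806 team project "MC": package [STRUCT]

Orders of the lower central terms of a `p`-group of maximal class, and `T / T'` has
exponent `p`.
-/

set_option autoImplicit false

namespace Cfsg.Agent.Lib.Helper59.MC

universe u

open Cfsg.Agent.Lib.Helper63.MC
open scoped commutatorElement

/-- a subgroup of a group of order `p ^ n` has order a power of `p` -/
theorem card_sub_pow {T : Type u} [Group T] [Finite T] {p : ℕ} (hp : p.Prime) {n : ℕ}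
    (hT : Nat.card T = p ^ n) (H : Subgroup T) : ∃ e, e ≤ n ∧ Nat.card H = p ^ e := by
  have h1 : Nat.card H ∣ p ^ n := hT ▸ Subgroup.card_subgroup_dvd_card H
  exact (Nat.dvd_prime_pow hp).mp h1

/-- orders of the lower central terms -/
theorem struct_card {T : Type u} [Group T] [Finite T] {p : ℕ} [Fact p.Prime] {n : ℕ}
    (hn : 3 ≤ n) (hT : Nat.card T = p ^ n) (hc : Group.nilpotencyClass T = n - 1) :
    ∀ i, 1 ≤ i → i ≤ n - 1 → Nat.card (L T i) = p ^ (n - 1 - i) := by
  have hp : p.Prime := Fact.out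
  have hP : IsPGroup p T := IsPGroup.of_card hT
  have hnil : Group.IsNilpotent T := hP.isNilpotent
  intro i hi1
  induction i, hi1 using Nat.le_induction with
  | base =>
    intro _
    have h1 := Cfsg.Agent.Lib.Helper73.commutator_index_of_maximal_class (X := T) n hn hT hc
    have h2 := (commutator T).card_mul_index
    rw [hT, h1] at h2
    have h3 : p ^ n = p ^ (n - 1 - 1) * p ^ 2 := by
      rw [← pow_add]
      congr 1
      omega
    rw [h3] at h2
    have h4 := Nat.eq_of_mul_eq_mul_right (pow_pos hp.pos 2) h2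
    show Nat.card ((⊤ : Subgroup T).lowerCentralSeries 1) = _
    rw [Subgroup.top_lowerCentralSeries_one]
    exact h4
  | succ i hi1 ih =>
    intro hi
    have ih' := ih (by omega)
    have hlt := Cfsg.Agent.Lib.Helper73.lowerCentralSeries_succ_lt (X := T) (i := i) (by omega)
    have hlow := Cfsg.Agent.Lib.Helper73.pow_le_card_lowerCentralSeries hP (n - 1 - (i + 1))
      (i + 1) (by omega)
    obtain ⟨e, _, he⟩ := card_sub_pow hp hT (L T (i + 1))
    have hdvd : Nat.card (L T (i + 1)) ∣ Nat.card (L T i) := Subgroup.card_dvd_of_le hlt.le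
    rw [he, ih'] at hdvd
    have he1 : e ≤ n - 1 - i := (Nat.pow_dvd_pow_iff_le_right hp.one_lt).mp hdvd
    have he2 : e ≠ n - 1 - i := by
      intro h
      apply hlt.ne
      apply Subgroup.eq_of_le_of_card_ge hlt.le
      show Nat.card (L T i) ≤ Nat.card (L T (i + 1))
      rw [he, ih', h]
    have he3 : n - 1 - (i + 1) ≤ e := by
      have h5 : p ^ (n - 1 - (i + 1)) ≤ p ^ e := he ▸ hlow
      exact (Nat.pow_le_pow_iff_right hp.one_lt).mp h5
    rw [he]
    congr 1
    omega

/-- `T / T'` has exponent `p` -/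
theorem struct_pow {T : Type u} [Group T] [Finite T] {p : ℕ} [Fact p.Prime] {n : ℕ}
    (hn : 3 ≤ n) (hT : Nat.card T = p ^ n) (hc : Group.nilpotencyClass T = n - 1) (t : T) :
    t ^ p ∈ L T 1 := by
  have hp : p.Prime := Fact.out
  have hP : IsPGroup p T := IsPGroup.of_card hT
  have hnil : Group.IsNilpotent T := hP.isNilpotent
  by_contra hcon
  have hlt := Cfsg.Agent.Lib.Helper73.lowerCentralSeries_succ_lt (X := T) (i := 1) (by omega)
  apply hlt.ne
  apply le_antisymm hlt.le
  -- the quotient `T / L 1` has order `p ^ 2`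
  have hidx : Nat.card (T ⧸ L T 1) = p ^ 2 := by
    have h1 := Cfsg.Agent.Lib.Helper73.commutator_index_of_maximal_class (X := T) n hn hT hc
    rw [← Subgroup.top_lowerCentralSeries_one] at h1
    rw [← h1]
    rfl
  -- the image of `t` has order `p ^ 2`
  have hord : orderOf (QuotientGroup.mk t : T ⧸ L T 1) = Nat.card (T ⧸ L T 1) := by
    have h1 : orderOf (QuotientGroup.mk t : T ⧸ L T 1) ∣ p ^ 2 := hidx ▸ orderOf_dvd_natCard _
    obtain ⟨e, he, heq⟩ := (Nat.dvd_prime_pow hp).mp h1
    have he2 : e = 2 := by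
      by_contra hne
      have he1 : e ≤ 1 := by omega
      apply hcon
      have h2 : (QuotientGroup.mk t : T ⧸ L T 1) ^ p = 1 := by
        apply orderOf_dvd_iff_pow_eq_one.mp
        rw [heq]
        calc p ^ e ∣ p ^ 1 := pow_dvd_pow p he1
          _ = p := pow_one p
      rw [← QuotientGroup.mk_pow] at h2
      exact (QuotientGroup.eq_one_iff _).mp h2
    rw [heq, he2, hidx]
  have hcyc : IsCyclic (T ⧸ L T 1) := isCyclic_of_orderOf_eq_card _ hord
  -- the natural map `T / L 2 → T / L 1`
  let f : T ⧸ L T 2 →* T ⧸ L T 1 :=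
    QuotientGroup.map (L T 2) (L T 1) (MonoidHom.id T) (by
      intro x hx
      exact hlt.le hx)
  have hker : f.ker ≤ Subgroup.center (T ⧸ L T 2) := by
    intro a ha
    induction a using QuotientGroup.induction_on with
    | H a =>
      have ha1 : a ∈ L T 1 := by
        have h1 : f (QuotientGroup.mk a) = 1 := ha
        have h2 : f (QuotientGroup.mk a) = (QuotientGroup.mk a : T ⧸ L T 1) := rfl
        rw [h2] at h1
        exact (QuotientGroup.eq_one_iff _).mp h1
      rw [Subgroup.mem_center_iff]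
      intro g
      induction g using QuotientGroup.induction_on with
      | H g =>
        have h3 : ⁅a, g⁆ ∈ L T 2 := by
          show ⁅a, g⁆ ∈ (⊤ : Subgroup T).lowerCentralSeries (1 + 1)
          rw [Subgroup.lowerCentralSeries_succ]
          exact Subgroup.commutator_mem_commutator ha1 (Subgroup.mem_top g)
        have h4 : (QuotientGroup.mk ⁅a, g⁆ : T ⧸ L T 2) = 1 :=
          (QuotientGroup.eq_one_iff _).mpr h3
        have h5 : (QuotientGroup.mk a : T ⧸ L T 2) * QuotientGroup.mk g
            = QuotientGroup.mk ⁅a, g⁆ * (QuotientGroup.mk g * QuotientGroup.mk a) := by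
          rw [← QuotientGroup.mk_mul, ← QuotientGroup.mk_mul, ← QuotientGroup.mk_mul]
          congr 1
          rw [commutatorElement_def]
          group
        rw [h5, h4, one_mul]
  have hcomm : ∀ a b : T ⧸ L T 2, a * b = b * a := fun a b =>
    (f.isMulCommutative_of_isCyclic_of_ker_le_center hker).is_comm.comm a b
  show (⊤ : Subgroup T).lowerCentralSeries 1 ≤ L T 2
  rw [show (⊤ : Subgroup T).lowerCentralSeries 1 = ⁅(⊤ : Subgroup T), ⊤⁆ from rfl,
    Subgroup.commutator_le]
  intro x _ y _
  apply (QuotientGroup.eq_one_iff _).mp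
  have h6 : (QuotientGroup.mk ⁅x, y⁆ : T ⧸ L T 2)
      = ⁅(QuotientGroup.mk x : T ⧸ L T 2), QuotientGroup.mk y⁆ := rfl
  rw [h6, commutatorElement_def, hcomm (QuotientGroup.mk x) (QuotientGroup.mk y)]
  group

/-- **[STRUCT]** -/
theorem pkgStruct : PkgStruct.{u} := by
  intro T _ _ p _ n hn hT hc
  exact ⟨struct_card hn hT hc, struct_pow hn hT hc⟩

end Cfsg.Agent.Lib.Helper59.MC
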